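import Cfsg.Agent.Lib.KnownB.WeaklyClosed.Check
import Cfsg.Agent.Lib.Chevalley.PosProduct

/-!
The root elements of roots which are not fundamental lie in the commutator subgroup of `U`.
-/

set_option autoImplicit false
set_option linter.unusedSectionVars false

namespace CfsgLib.WeaklyClosed

open CfsgLib.Chevalley CfsgLib.Chevalley.Tbl

/-- The group generated by the positive root subgroups. -/
abbrev PU (T : Tbl) (F : Type*) [Field F] : Subgroup (GL T.I F) :=
  T.rootGen F (fun r => T.half ≤ r)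

variable {T : Tbl} {F : Type*} [Field F]

/-- The class of a root element in the abelianisation of `U`. -/
noncomputable def xi (T : Tbl) (F : Type*) [Field F] (r : ℕ) (t : F) : Abelianization ↥(PU T F) :=
  if h : r < T.n ∧ T.half ≤ r then
    Abelianization.of ⟨T.xU F r t, xU_mem_rootGen (P := fun r => T.half ≤ r) h.1 h.2 t⟩
  else 1

theorem of_eq_xi {r : ℕ} (hr : r < T.n) (hp : T.half ≤ r) (t : F)
    (h : T.xU F r t ∈ PU T F) : Abelianization.of (⟨T.xU F r t, h⟩ : ↥(PU T F)) = xi T F r t := by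
  rw [xi, dif_pos ⟨hr, hp⟩]

variable (hT : T.Valid)
include hT

theorem xi_add (r : ℕ) (a b : F) : xi T F r (a + b) = xi T F r a * xi T F r b := by
  unfold xi
  split_ifs with h
  · rw [← map_mul]
    exact congrArg _ (Subtype.ext (xU_add hT h.1 a b).symm)
  · rw [one_mul]

theorem xi_sub (r : ℕ) (a b : F) : xi T F r (a - b) = xi T F r a / xi T F r b := by
  rw [eq_div_iff_mul_eq', ← xi_add hT, sub_add_cancel]

theorem xi_zero (r : ℕ) : xi T F r (0 : F) = 1 := by
  rw [← sub_self (0 : F), xi_sub hT, div_self']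

variable (hC : T.chkComm = true)
include hC

/-- The commutator formula in the abelianisation. -/
theorem rel_comm {a b : ℕ} (ha : a < T.n) (hb : b < T.n) (hap : T.half ≤ a) (hbp : T.half ≤ b)
    (hab : b ≠ a) (t u : F) :
    ((T.commT a b).map fun c => xi T F c.1 ((c.2.1 : F) * (t ^ c.2.2.1 * u ^ c.2.2.2))).prod = 1 := by
  have hneg : b ≠ T.neg a := by unfold Tbl.neg Tbl.n at *; omega
  have hmem : ∀ c ∈ T.commT a b, c.1 < T.n ∧ T.half ≤ c.1 := fun c hc =>
    ⟨commT_lt hT ha hb c hc, le_of_lt (lt_of_le_of_lt hap (commT_gt hT ha hb hap hbp c hc).1)⟩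
  let A : ↥(PU T F) := ⟨T.xU F a (-t), xU_mem_rootGen (P := fun r => T.half ≤ r) ha hap _⟩
  let B : ↥(PU T F) := ⟨T.xU F b u, xU_mem_rootGen (P := fun r => T.half ≤ r) hb hbp _⟩
  have key : ∀ l : List (ℕ × ℤ × ℕ × ℕ), (∀ c ∈ l, c.1 < T.n ∧ T.half ≤ c.1) →
      ∃ z : ↥(PU T F), (z : GL T.I F) =
          (l.map fun c => T.xU F c.1 ((c.2.1 : F) * (- -t) ^ c.2.2.1 * u ^ c.2.2.2)).prod ∧
        Abelianization.of z =
          (l.map fun c => xi T F c.1 ((c.2.1 : F) * (t ^ c.2.2.1 * u ^ c.2.2.2))).prod := by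
    intro l
    induction l with
    | nil => intro _; exact ⟨1, rfl, map_one _⟩
    | cons c l ih =>
      intro h
      obtain ⟨h1, h2⟩ := h c (List.mem_cons_self ..)
      obtain ⟨z, hz, hz'⟩ := ih fun d hd => h d (List.mem_cons_of_mem _ hd)
      refine ⟨⟨_, xU_mem_rootGen (P := fun r => T.half ≤ r) h1 h2
        ((c.2.1 : F) * (- -t) ^ c.2.2.1 * u ^ c.2.2.2)⟩ * z, ?_, ?_⟩
      · rw [List.map_cons, List.prod_cons, Subgroup.coe_mul, hz]
      · rw [List.map_cons, List.prod_cons, map_mul, hz', of_eq_xi h1 h2, neg_neg, mul_assoc]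
  obtain ⟨z, hz, hz'⟩ := key _ hmem
  have e : B * A = A * B * z := Subtype.ext (by
    show T.xU F b u * T.xU F a (-t) = T.xU F a (-t) * T.xU F b u * (z : GL T.I F)
    rw [hz]; exact comm_xU hT hC ha hb hab hneg (-t) u)
  have e2 := congrArg Abelianization.of e
  rw [map_mul, map_mul, map_mul, mul_comm (Abelianization.of B), eq_comm, mul_eq_left] at e2
  rw [← hz', e2]

omit hT hC in
theorem prod_eq_single_filter {M : Type*} [CommMonoid M] {α : Type*} {l : List α} {p : α → Bool}
    {c : α} (h : l.filter p = [c]) (g : α → M) (hg : ∀ d ∈ l, p d = false → g d = 1) :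
    (l.map g).prod = g c := by
  have : ∀ l : List α, (∀ d ∈ l, p d = false → g d = 1) →
      (l.map g).prod = ((l.filter p).map g).prod := by
    intro l
    induction l with
    | nil => simp
    | cons d l ih =>
      intro hg
      have ih' := ih fun x hx => hg x (List.mem_cons_of_mem _ hx)
      cases hd : p d with
      | true => rw [List.filter_cons_of_pos hd, List.map_cons, List.map_cons, List.prod_cons,
          List.prod_cons, ih']
      | false => rw [List.filter_cons_of_neg (by simp [hd]), List.map_cons, List.prod_cons,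
          hg d (List.mem_cons_self ..) hd, one_mul, ih']
  rw [this l hg, h]
  simp

/-- Weights `P` for which the relation of `a` and `b` holds. -/
def Rel (T : Tbl) (F : Type*) [Field F] (a b : ℕ) (P : ℕ → ℕ → F) : Prop :=
  ((T.commT a b).map fun c => xi T F c.1 ((c.2.1 : F) * P c.2.2.1 c.2.2.2)).prod = 1

omit hC in
theorem Rel.sub {a b : ℕ} {P Q : ℕ → ℕ → F} (hP : Rel T F a b P) (hQ : Rel T F a b Q) :
    Rel T F a b (fun i j => P i j - Q i j) := by
  have : ∀ l : List (ℕ × ℤ × ℕ × ℕ),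
      (l.map fun c => xi T F c.1 ((c.2.1 : F) * (P c.2.2.1 c.2.2.2 - Q c.2.2.1 c.2.2.2))).prod =
        (l.map fun c => xi T F c.1 ((c.2.1 : F) * P c.2.2.1 c.2.2.2)).prod /
        (l.map fun c => xi T F c.1 ((c.2.1 : F) * Q c.2.2.1 c.2.2.2)).prod := by
    intro l
    induction l with
    | nil => simp
    | cons c l ih =>
      simp only [List.map_cons, List.prod_cons]
      rw [ih, mul_sub, xi_sub hT, div_mul_div_comm]
  unfold Rel at *
  rw [this, hP, hQ, div_one]

theorem rel_mono {a b : ℕ} (ha : a < T.n) (hb : b < T.n) (hap : T.half ≤ a) (hbp : T.half ≤ b)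
    (hab : b ≠ a) (t u : F) : Rel T F a b (fun i j => t ^ i * u ^ j) :=
  rel_comm hT hC ha hb hap hbp hab t u

omit hC in
theorem kills_of_rel {r a b : ℕ} {C : ℤ} {i0 j0 : ℕ} {ok : ℕ → ℕ → Bool}
    (hfilt : (T.commT a b).filter (fun c => Nat.beq c.1 r) = [(r, C, i0, j0)])
    (hoth : T.wcOthers r a b ok = true)
    (hknown : ∀ v, r < v → T.wcSimple v = false → ∀ t : F, xi T F v t = 1)
    {P : ℕ → ℕ → F} (hP : Rel T F a b P) (hok : ∀ i j, ok i j = true → P i j = 0) :
    xi T F r ((C : F) * P i0 j0) = 1 := by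
  rw [← hP]
  refine (prod_eq_single_filter hfilt
    (fun c => xi T F c.1 ((c.2.1 : F) * P c.2.2.1 c.2.2.2)) fun d hd hdr => ?_).symm
  have h := List.all_eq_true.mp hoth d hd
  simp only [Bool.or_eq_true, Bool.and_eq_true, hdr, Bool.false_eq_true, false_or,
    Bool.not_eq_true'] at h
  rcases h with ⟨h1, h2⟩ | h
  · exact hknown _ (Nat.le_of_ble_eq_true h1) h2 _
  · rw [hok _ _ h, mul_zero, xi_zero hT]

theorem xi_eq_one_of_kills {q4 : Bool} {r a b : ℕ} (hkills : T.wcKills q4 r a b = true)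
    (hknown : ∀ v, r < v → T.wcSimple v = false → ∀ t : F, xi T F v t = 1)
    (hF : ∃ l : F, l ≠ 0 ∧ l ≠ 1) (hq4 : q4 = true → ∃ l : F, l ≠ 0 ∧ l * l ≠ 1) (t : F) :
    xi T F r t = 1 := by
  unfold Tbl.wcKills at hkills
  simp only [Bool.and_eq_true, Bool.not_eq_true'] at hkills
  obtain ⟨⟨⟨⟨⟨ha, hb⟩, hap⟩, hbp⟩, hab⟩, hm⟩ := hkills
  have ha' : a < T.n := Nat.le_of_ble_eq_true ha
  have hb' : b < T.n := Nat.le_of_ble_eq_true hb
  have hab' : b ≠ a := fun e => by subst e; simp at hab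
  have R := rel_mono (F := F) hT hC ha' hb' (isPos_iff.mp hap) (isPos_iff.mp hbp) hab'
  split at hm
  case h_2 => exact absurd hm (by simp)
  case h_1 v C i j hfilt =>
  have hv : v = r := by
    have : (v, C, i, j) ∈ (T.commT a b).filter (fun c => Nat.beq c.1 r) := by rw [hfilt]; simp
    exact Nat.eq_of_beq_eq_true (List.mem_filter.mp this).2
  subst hv
  simp only [Bool.and_eq_true, Bool.or_eq_true] at hm
  obtain ⟨hC1, hm⟩ := hm
  have hCC : (C : F) * (C : F) = 1 := by
    rcases Int.natAbs_eq C with e | e <;> rw [e, Nat.eq_of_beq_eq_true hC1] <;> norm_num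
  suffices ∃ k : F, k ≠ 0 ∧ ∀ y, xi T F v ((C : F) * (k * y)) = 1 by
    obtain ⟨k, hk, h⟩ := this
    have := h ((C : F) * t / k)
    rwa [mul_div_cancel₀ _ hk, ← mul_assoc, hCC, one_mul] at this
  obtain ⟨l, hl0, hl1⟩ := hF
  have hl1' : l - 1 ≠ 0 := sub_ne_zero.mpr hl1
  rcases hm with (((⟨hij, ho⟩ | ⟨⟨hi, hj⟩, ho⟩) | ⟨⟨hi, hj⟩, ho⟩) | ⟨⟨⟨hq, hi⟩, hj⟩, ho⟩) |
      ⟨⟨⟨hq, hi⟩, hj⟩, ho⟩
  · refine ⟨1, one_ne_zero, fun y => ?_⟩
    rcases hij with h1 | h1
    · obtain rfl := Nat.eq_of_beq_eq_true h1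
      have := kills_of_rel hT hfilt ho hknown (R y 1) (fun i j h => by simp at h)
      simpa using this
    · obtain rfl := Nat.eq_of_beq_eq_true h1
      have := kills_of_rel hT hfilt ho hknown (R 1 y) (fun i j h => by simp at h)
      simpa using this
  · obtain rfl := Nat.eq_of_beq_eq_true hi
    obtain rfl := Nat.eq_of_beq_eq_true hj
    refine ⟨l - 1, hl1', fun y => ?_⟩
    have := kills_of_rel hT hfilt ho hknown (Rel.sub hT (R (l * 1) (y / l)) (R 1 y)) (fun i j h => by
      simp only [Bool.and_eq_true] at h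
      rw [Nat.eq_of_beq_eq_true h.1, Nat.eq_of_beq_eq_true h.2]
      field_simp
      ring)
    rw [← this]
    congr 1
    field_simp
  · obtain rfl := Nat.eq_of_beq_eq_true hi
    obtain rfl := Nat.eq_of_beq_eq_true hj
    refine ⟨l - 1, hl1', fun y => ?_⟩
    have := kills_of_rel hT hfilt ho hknown (Rel.sub hT (R (y / l) l) (R y 1)) (fun i j h => by
      simp only [Bool.and_eq_true] at h
      rw [Nat.eq_of_beq_eq_true h.1, Nat.eq_of_beq_eq_true h.2]
      field_simp
      ring)
    rw [← this]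
    congr 1
    field_simp
  · obtain rfl := Nat.eq_of_beq_eq_true hi
    obtain rfl := Nat.eq_of_beq_eq_true hj
    obtain ⟨m, hm0, hm1⟩ := hq4 hq
    refine ⟨(m * m - 1) * (l - 1), mul_ne_zero (sub_ne_zero.mpr hm1) hl1', fun y => ?_⟩
    have := kills_of_rel hT hfilt ho hknown (Rel.sub hT
      (Rel.sub hT (R (l * m) (y / (l ^ 2 * m))) (R l (y / l ^ 2)))
      (Rel.sub hT (R m (y / m)) (R 1 y))) (fun i j h => by
      simp only [Bool.and_eq_true, Bool.or_eq_true] at h
      rcases h.1 with h1 | h1 <;>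
        rw [Nat.eq_of_beq_eq_true h1, Nat.eq_of_beq_eq_true h.2] <;> field_simp <;> ring)
    rw [← this]
    congr 1
    field_simp
  · obtain rfl := Nat.eq_of_beq_eq_true hi
    obtain rfl := Nat.eq_of_beq_eq_true hj
    obtain ⟨m, hm0, hm1⟩ := hq4 hq
    refine ⟨(m * m - 1) * (l - 1), mul_ne_zero (sub_ne_zero.mpr hm1) hl1', fun y => ?_⟩
    have := kills_of_rel hT hfilt ho hknown (Rel.sub hT
      (Rel.sub hT (R (y / (l ^ 2 * m)) (l * m)) (R (y / l ^ 2) l))
      (Rel.sub hT (R (y / m) m) (R y 1))) (fun i j h => by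
      simp only [Bool.and_eq_true, Bool.or_eq_true] at h
      rcases h.2 with h1 | h1 <;>
        rw [Nat.eq_of_beq_eq_true h.1, Nat.eq_of_beq_eq_true h1] <;> field_simp <;> ring)
    rw [← this]
    congr 1
    field_simp

/-- Root elements of roots which are not fundamental vanish in the abelianisation. -/
theorem xi_eq_one {q4 : Bool} (hD : T.chkDerived q4 = true) (hF : ∃ l : F, l ≠ 0 ∧ l ≠ 1)
    (hq4 : q4 = true → ∃ l : F, l ≠ 0 ∧ l * l ≠ 1) :
    ∀ r, T.wcSimple r = false → ∀ t : F, xi T F r t = 1 := by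
  suffices ∀ k r, T.n ≤ r + k → T.wcSimple r = false → ∀ t : F, xi T F r t = 1 from
    fun r => this T.n r (Nat.le_add_left _ _)
  intro k
  induction k with
  | zero =>
    intro r hr _ t
    rw [xi, dif_neg]
    rintro ⟨h, -⟩
    omega
  | succ k ih =>
    intro r hrk hrs t
    by_cases hr : r < T.n ∧ T.half ≤ r
    swap
    · rw [xi, dif_neg hr]
    have hknown : ∀ v, r < v → T.wcSimple v = false → ∀ t : F, xi T F v t = 1 :=
      fun v hv => ih v (by omega)
    have h := allLt_iff.mp hD r hr.1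
    simp only [Bool.or_eq_true, Bool.not_eq_true', List.any_eq_true, hrs, Bool.false_eq_true,
      or_false, isPos_iff.mpr hr.2] at h
    simp only [Bool.true_eq_false, false_or] at h
    rcases h with ⟨i, -, h⟩ | ⟨i, -, b, -, h⟩
    · split at h
      case h_2 => exact absurd h (by simp)
      case h_1 b N hb =>
      simp only [Bool.or_eq_true] at h
      rcases h with h | h <;> exact xi_eq_one_of_kills hT hC h hknown hF hq4 t
    · rcases h with h | h <;> exact xi_eq_one_of_kills hT hC h hknown hF hq4 t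

end CfsgLib.WeaklyClosed
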