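import Cfsg.Agent.Lib.KnownB.WeaklyClosed.Check
import Cfsg.Agent.Lib.Chevalley.Data.G2
import Cfsg.Agent.Lib.Chevalley.Data.B2
import Cfsg.Agent.Lib.Chevalley.Data.D4
import Cfsg.Agent.Lib.Chevalley.Data.F4
import Cfsg.Agent.Lib.Chevalley.Data.E6
import Cfsg.Agent.Lib.Chevalley.Data.E7
import Cfsg.Agent.Lib.Chevalley.Data.E8

/-!
The certificates for weakly closed subgroups on the seven tables.
-/

set_option autoImplicit false
set_option maxRecDepth 20000
set_option Elab.async false

namespace CfsgLib.Chevalley.Data

theorem G2.wcDerived : G2.tbl.chkDerived true = true := by decide +kernel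

theorem B2.wcDerived : B2.tbl.chkDerived true = true := by decide +kernel

theorem D4.wcDerived : D4.tbl.chkDerived true = true := by decide +kernel

theorem F4.wcDerived : F4.tbl.chkDerived true = true := by decide +kernel

theorem E6.wcDerived : E6.tbl.chkDerived false = true := by decide +kernel

theorem E7.wcDerived : E7.tbl.chkDerived false = true := by decide +kernel

theorem E8.wcDerived : E8.tbl.chkDerived false = true := by decide +kernel

theorem G2.wcCartan : G2.tbl.chkCartan = true := by decide +kernel

theorem B2.wcCartan : B2.tbl.chkCartan = true := by decide +kernel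

theorem D4.wcCartan : D4.tbl.chkCartan = true := by decide +kernel

theorem F4.wcCartan : F4.tbl.chkCartan = true := by decide +kernel

theorem E6.wcCartan : E6.tbl.chkCartan = true := by decide +kernel

theorem E7.wcCartan : E7.tbl.chkCartan = true := by decide +kernel

theorem E8.wcCartan : E8.tbl.chkCartan = true := by decide +kernel

theorem E6.wcSep2 : E6.tbl.chkSep 2 1 = true := by decide +kernel

theorem E7.wcSep2 : E7.tbl.chkSep 2 1 = true := by decide +kernel

theorem E8.wcSep2 : E8.tbl.chkSep 2 1 = true := by decide +kernel

end CfsgLib.Chevalley.Data
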