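import Cfsg.Agent.Lib.Chevalley.CommCheck

/-!
Certificates used for weakly closed subgroups of `U`: every root which is not fundamental dies in the
abelianisation of `U`, and the columns of the Cartan matrix are separated modulo small numbers.
-/

set_option autoImplicit false

namespace CfsgLib.Chevalley.Tbl

variable (T : Tbl)

/-- The index of a fundamental root. -/
def wcSimple (v : ℕ) : Bool := (List.range T.rank).any fun i => Nat.beq v (T.simple i)

/-- All terms other than the target are known or have an allowed shape. -/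
def wcOthers (r a b : ℕ) (ok : ℕ → ℕ → Bool) : Bool :=
  (T.commT a b).all fun c =>
    Nat.beq c.1 r || (Nat.blt r c.1 && !(T.wcSimple c.1)) || ok c.2.2.1 c.2.2.2

/-- The relation of `a` and `b` kills the root `r`. -/
def wcKills (q4 : Bool) (r a b : ℕ) : Bool :=
  Nat.blt a T.n && Nat.blt b T.n && T.isPos a && T.isPos b && !(Nat.beq a b) &&
  match (T.commT a b).filter (fun c => Nat.beq c.1 r) with
  | [(_, C, i, j)] => Nat.beq C.natAbs 1 &&
    (((Nat.beq i 1 || Nat.beq j 1) && T.wcOthers r a b fun _ _ => false) ||
      (Nat.beq i 2 && Nat.beq j 1 && T.wcOthers r a b fun k l => Nat.beq k 1 && Nat.beq l 1) ||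
      (Nat.beq i 1 && Nat.beq j 2 && T.wcOthers r a b fun k l => Nat.beq k 1 && Nat.beq l 1) ||
      (q4 && Nat.beq i 3 && Nat.beq j 1 &&
        T.wcOthers r a b fun k l => (Nat.beq k 1 || Nat.beq k 2) && Nat.beq l 1) ||
      (q4 && Nat.beq i 1 && Nat.beq j 3 &&
        T.wcOthers r a b fun k l => Nat.beq k 1 && (Nat.beq l 1 || Nat.beq l 2)))
  | _ => false

/-- Every positive root which is not fundamental is killed by some relation. -/
def chkDerived (q4 : Bool) : Bool :=
  allLt (fun r => !(T.isPos r) || T.wcSimple r ||
    ((List.range T.rank).any fun i =>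
      match T.sum? (T.neg (T.simple i)) r with
      | some (b, _) => T.wcKills q4 r (T.simple i) b || T.wcKills q4 r b (T.simple i)
      | none => false) ||
    (List.range T.rank).any fun i => (List.range T.n).any fun b =>
      T.wcKills q4 r (T.simple i) b || T.wcKills q4 r b (T.simple i)) T.n

/-- The columns `e • A_{·,i}` and `A_{·,j}` differ modulo `d`. -/
def chkSep (d e : ℕ) : Bool :=
  allLt (fun i => allLt (fun j => Nat.beq i j ||
    (List.range T.rank).any fun k =>
      !(decide (((e : ℤ) * T.ca k (T.simple i) - T.ca k (T.simple j)) % (d : ℤ) = 0))) T.rank) T.rank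

/-- `A_ij A_ji ≤ 3` and the separations for the fields of order `4` and `5`. -/
def chkCartan : Bool :=
  allLt (fun i => allLt (fun j => Nat.beq i j ||
    decide (0 ≤ T.ca i (T.simple j) * T.ca j (T.simple i) ∧
      T.ca i (T.simple j) * T.ca j (T.simple i) ≤ 3)) T.rank) T.rank &&
  T.chkSep 3 1 && T.chkSep 3 2 && T.chkSep 4 1

end CfsgLib.Chevalley.Tbl
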