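import Cfsg.Agent.Lib.KnownB.WeaklyClosed.Abelian
import Cfsg.Agent.Lib.Chevalley.BN

/-!
The coefficients of an element of `U` at the fundamental roots, and the abelianisation of `U`.
-/

set_option autoImplicit false
set_option linter.unusedSectionVars false

namespace CfsgLib.WeaklyClosed

open CfsgLib.Chevalley CfsgLib.Chevalley.Tbl

variable {T : Tbl} {F : Type*} [Field F]

/-- The subgroup generated by the positive roots other than the `i`-th fundamental one. -/
abbrev UP (T : Tbl) (F : Type*) [Field F] (i : ℕ) : Subgroup (GL T.I F) :=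
  T.rootGen F (fun s => T.half ≤ s ∧ s ≠ T.simple i)

variable (hT : T.Valid)
include hT

theorem xU_simple_not_mem (i : Fin T.rank) {t : F} (h : T.xU F (T.simple i) t ∈ UP T F i) : t = 0 := by
  have hp := simple_lt hT i.2
  have h1 := conj_Up hT i h
  rw [nU_conj hT hp, mul_inv_cancel_right] at h1
  have h2 : T.xU F (T.neg (T.simple i)) (-t) ∈ T.datum.negUnipotent F := by
    rw [negUnipotent_rootGen hT]
    exact xU_mem_rootGen (P := fun r => r < T.half) (neg_lt' hp)
      (negF_lt (s := T.simpF hT i) (half_le_simpF hT i)) _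
  have h3 : T.xU F (T.neg (T.simple i)) (-t) ∈ T.datum.borelSubgroup F := by
    refine Subgroup.mem_sup_left ?_
    rw [posUnipotent_rootGen hT]
    exact rootGen_mono (fun s _ h => h.1) h1
  have h4 : T.xU F (T.neg (T.simple i)) (-t) ∈ (⊥ : Subgroup (GL T.I F)) :=
    borel_inf_neg (T := T) (F := F) hT ▸ ⟨h3, h2⟩
  rw [Subgroup.mem_bot, ← xU_zero hT (neg_lt' hp)] at h4
  exact neg_eq_zero.mp (xU_inj hT (neg_lt' hp) h4)

variable (hC : T.chkComm = true)
include hC

theorem exists_coef (i : Fin T.rank) (u : ↥(PU T F)) :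
    ∃ t : F, (T.xU F (T.simple i) t)⁻¹ * (u : GL T.I F) ∈ UP T F i := by
  have hp := simple_lt hT i.2
  have hnorm : T.datum.rootSubgroup F (T.simple i) ≤
      Subgroup.normalizer (UP T F i : Set (GL T.I F)) := fun g hg => by
    obtain ⟨t, rfl⟩ := (mem_rootSubgroup_iff hT hp).mp hg
    exact xU_mem_normalizer_simple hT hC i.2 (Or.inl rfl) t
  have h : (u : GL T.I F) ∈ T.datum.posUnipotent F := by rw [posUnipotent_rootGen hT]; exact u.2
  rw [← pos_eq_sup_simple hT i.2, sup_comm, ← SetLike.mem_coe,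
    Subgroup.coe_mul_of_left_le_normalizer_right _ _ hnorm] at h
  obtain ⟨x, hx, u', hu', e⟩ := h
  obtain ⟨t, rfl⟩ := (mem_rootSubgroup_iff hT hp).mp hx
  refine ⟨t, ?_⟩
  rw [← e]
  simpa using hu'

omit hC in
theorem coef_unique (i : Fin T.rank) {u : GL T.I F} {s t : F}
    (hs : (T.xU F (T.simple i) s)⁻¹ * u ∈ UP T F i)
    (ht : (T.xU F (T.simple i) t)⁻¹ * u ∈ UP T F i) : s = t := by
  have hp := simple_lt hT i.2
  have := mul_mem hs (inv_mem ht)
  rw [show (T.xU F (T.simple i) s)⁻¹ * u * ((T.xU F (T.simple i) t)⁻¹ * u)⁻¹ =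
    (T.xU F (T.simple i) s)⁻¹ * T.xU F (T.simple i) t by group, xU_inv hT hp, xU_add hT hp] at this
  exact neg_add_eq_zero.mp (xU_simple_not_mem hT i this)

/-- The coefficient at the `i`-th fundamental root. -/
noncomputable def coef (i : Fin T.rank) (u : ↥(PU T F)) : F :=
  (exists_coef hT hC i u).choose

theorem coef_spec (i : Fin T.rank) (u : ↥(PU T F)) :
    (T.xU F (T.simple i) (coef hT hC i u))⁻¹ * (u : GL T.I F) ∈ UP T F i :=
  (exists_coef hT hC i u).choose_spec

theorem coef_eq (i : Fin T.rank) {u : ↥(PU T F)} {t : F}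
    (h : (T.xU F (T.simple i) t)⁻¹ * (u : GL T.I F) ∈ UP T F i) : coef hT hC i u = t :=
  coef_unique hT i (coef_spec hT hC i u) h

theorem coef_eq_zero_of_mem (i : Fin T.rank) {u : ↥(PU T F)} (h : (u : GL T.I F) ∈ UP T F i) :
    coef hT hC i u = 0 :=
  coef_eq hT hC i (by rwa [xU_zero hT (simple_lt hT i.2), inv_one, one_mul])

theorem coef_mul (i : Fin T.rank) (u v : ↥(PU T F)) :
    coef hT hC i (u * v) = coef hT hC i u + coef hT hC i v := by
  have hp := simple_lt hT i.2
  refine coef_eq hT hC i ?_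
  set s := coef hT hC i u
  set t := coef hT hC i v
  have h1 := (Subgroup.mem_normalizer_iff.mp
    (inv_mem (xU_mem_normalizer_simple hT hC i.2 (Or.inl rfl) t)) _).mp (coef_spec hT hC i u)
  have := mul_mem h1 (coef_spec hT hC i v)
  rw [Subgroup.coe_mul, ← xU_add hT hp s t, _root_.mul_inv_rev]
  rwa [show (T.xU F (T.simple i) t)⁻¹ * ((T.xU F (T.simple i) s)⁻¹ * (u : GL T.I F)) *
      ((T.xU F (T.simple i) t)⁻¹)⁻¹ * ((T.xU F (T.simple i) t)⁻¹ * (v : GL T.I F)) =
    (T.xU F (T.simple i) t)⁻¹ * (T.xU F (T.simple i) s)⁻¹ * ((u : GL T.I F) * v) by group] at this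

theorem coef_one (i : Fin T.rank) : coef hT hC i (1 : ↥(PU T F)) = 0 :=
  coef_eq_zero_of_mem hT hC i (one_mem _)

theorem coef_inv (i : Fin T.rank) (u : ↥(PU T F)) : coef hT hC i u⁻¹ = - coef hT hC i u := by
  have := coef_mul hT hC i u u⁻¹
  rw [mul_inv_cancel, coef_one] at this
  exact eq_neg_of_add_eq_zero_right this.symm

theorem coef_xU_simple (i j : Fin T.rank) (t : F) (h : T.xU F (T.simple j) t ∈ PU T F) :
    coef hT hC i ⟨T.xU F (T.simple j) t, h⟩ = if j = i then t else 0 := by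
  split_ifs with e
  · subst e
    exact coef_eq hT hC _ (by rw [Subgroup.coe_mk, inv_mul_cancel]; exact one_mem _)
  · refine coef_eq_zero_of_mem hT hC i (xU_mem_rootGen (P := fun s => T.half ≤ s ∧ s ≠ T.simple i)
      (simple_lt hT j.2) ⟨half_le_simpF hT j, fun e' => e ?_⟩ t)
    exact simpF_injective hT (Fin.ext e')

omit hC in
theorem wcSimple_iff {v : ℕ} : T.wcSimple v = true ↔ ∃ i : Fin T.rank, v = T.simple i := by
  simp only [Tbl.wcSimple, List.any_eq_true, List.mem_range]
  exact ⟨fun ⟨i, hi, h⟩ => ⟨⟨i, hi⟩, Nat.eq_of_beq_eq_true h⟩,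
    fun ⟨i, h⟩ => ⟨i, i.2, by rw [h]; exact Nat.beq_refl _⟩⟩

/-- Modulo the commutator subgroup an element is the product of its fundamental components. -/
theorem of_eq_prod (hxi : ∀ r, T.wcSimple r = false → ∀ t : F, xi T F r t = 1) (u : ↥(PU T F)) :
    Abelianization.of u = ∏ i : Fin T.rank, xi T F (T.simple i) (coef hT hC i u) := by
  have key : ∀ g : GL T.I F, ∀ hg : g ∈ PU T F, Abelianization.of (⟨g, hg⟩ : ↥(PU T F)) =
      ∏ i : Fin T.rank, xi T F (T.simple i) (coef hT hC i ⟨g, hg⟩) := by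
    intro g hg
    induction hg using Subgroup.closure_induction with
    | mem x hx =>
      obtain ⟨r, hr, hrp, t, rfl⟩ := hx
      suffices h : ∀ hx' : T.xU F r t ∈ PU T F, Abelianization.of (⟨T.xU F r t, hx'⟩ : ↥(PU T F)) =
          ∏ i : Fin T.rank, xi T F (T.simple i) (coef hT hC i ⟨T.xU F r t, hx'⟩) from h _
      intro hx'
      rw [of_eq_xi hr hrp]
      cases hs : T.wcSimple r with
      | true =>
        obtain ⟨j, rfl⟩ := (wcSimple_iff hT).mp hs
        rw [Finset.prod_eq_single j]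
        · rw [coef_xU_simple, if_pos rfl]
        · intro i _ hij
          rw [coef_xU_simple, if_neg (Ne.symm hij), xi_zero hT]
        · simp
      | false =>
        rw [hxi r hs t]
        refine (Finset.prod_eq_one fun i _ => ?_).symm
        rw [coef_eq_zero_of_mem hT hC i, xi_zero hT]
        exact xU_mem_rootGen (P := fun s => T.half ≤ s ∧ s ≠ T.simple i) hr
          ⟨hrp, fun e => Bool.false_ne_true (hs.symm.trans ((wcSimple_iff hT).mpr ⟨i, e⟩))⟩ t
    | one =>
      refine (map_one _).trans (Finset.prod_eq_one fun i _ => ?_).symm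
      rw [show (⟨1, _⟩ : ↥(PU T F)) = 1 from rfl, coef_one, xi_zero hT]
    | mul x y hx hy ihx ihy =>
      rw [show (⟨x * y, _⟩ : ↥(PU T F)) = ⟨x, hx⟩ * ⟨y, hy⟩ from rfl, map_mul, ihx, ihy,
        ← Finset.prod_mul_distrib]
      refine Finset.prod_congr rfl fun i _ => ?_
      rw [coef_mul, xi_add hT]
    | inv x hx ihx =>
      rw [show (⟨x⁻¹, _⟩ : ↥(PU T F)) = ⟨x, hx⟩⁻¹ from rfl, map_inv, ihx, ← Finset.prod_inv_distrib]
      refine Finset.prod_congr rfl fun i _ => ?_
      rw [coef_inv, ← zero_sub, xi_sub hT, xi_zero hT, one_div]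
  exact key u u.2

end CfsgLib.WeaklyClosed
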