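import Mathlib

/-!
An additive subgroup of `F^l` invariant under a torus acting through characters, with all coordinate
projections nonzero, is everything when the characters are separated.
-/

set_option autoImplicit false

namespace CfsgLib.WeaklyClosed

variable {F : Type*} [Field F] [Fintype F] {ι : Type*}

theorem mem_of_squares (K : Subring F) (h : ∀ c : Fˣ, (c : F) ^ 2 ∈ K) (y : F) : y ∈ K := by
  have hsq : ∀ x : F, x ^ 2 ∈ K := fun x => by
    by_cases hx : x = 0
    · subst hx; simp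
    · exact h (Units.mk0 x hx)
  by_cases h2 : ringChar F = 2
  · obtain ⟨x, hx⟩ := FiniteField.isSquare_of_char_two h2 y
    rw [hx, ← sq]; exact hsq x
  · have h20 : (2 : F) ≠ 0 := Ring.two_ne_zero h2
    have e : y = ((y + 1) / 2) ^ 2 - ((y - 1) / 2) ^ 2 := by field_simp; ring
    rw [e]; exact sub_mem (hsq _) (hsq _)

/-- The multipliers of `W`. -/
def multipliers (W : AddSubgroup (ι → F)) : Subring (ι → F) where
  carrier := {r | ∀ w ∈ W, r * w ∈ W}
  mul_mem' := fun {a b} ha hb w hw => by rw [mul_assoc]; exact ha _ (hb w hw)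
  one_mem' := fun w hw => by rwa [one_mul]
  add_mem' := fun {a b} ha hb w hw => by rw [add_mul]; exact add_mem (ha w hw) (hb w hw)
  zero_mem' := fun w _ => by rw [zero_mul]; exact zero_mem W
  neg_mem' := fun {a} ha w hw => by rw [neg_mul]; exact neg_mem (ha w hw)

variable [Fintype ι] [DecidableEq ι]

theorem eq_top_of_separated (W : AddSubgroup (ι → F)) (A : ι → ι → ℤ) (hdiag : ∀ i, A i i = 2)
    (hinv : ∀ (k : ι) (c : Fˣ), ∀ w ∈ W, (fun i => ((c ^ A k i : Fˣ) : F) * w i) ∈ W)
    (hnz : ∀ j, ∃ w ∈ W, w j ≠ 0)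
    (hsep : ∀ i j, i ≠ j → ¬ ∃ σ : F →+* F,
      ∀ (k : ι) (c : Fˣ), σ ((c ^ A k i : Fˣ) : F) = ((c ^ A k j : Fˣ) : F)) : W = ⊤ := by
  classical
  set S := multipliers W with hSdef
  have hA : ∀ (k : ι) (c : Fˣ), (fun i => ((c ^ A k i : Fˣ) : F)) ∈ S := fun k c w hw => hinv k c w hw
  have hsurj : ∀ (i : ι) (y : F), ∃ r ∈ S, r i = y := fun i y => by
    obtain ⟨r, hr, e⟩ := mem_of_squares (S.map (Pi.evalRingHom (fun _ => F) i)) (fun c =>
      ⟨_, hA i c, by
        show ((c ^ A i i : Fˣ) : F) = _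
        rw [hdiag, zpow_two, Units.val_mul, sq]⟩) y
    exact ⟨r, hr, e⟩
  have hpair : ∀ i j, i ≠ j → ∃ r ∈ S, r i = 0 ∧ r j ≠ 0 := by
    intro i j hij
    by_contra hno
    push Not at hno
    choose r hr hri using hsurj i
    have key : ∀ x ∈ S, r (x i) j = x j := fun x hx => by
      have := hno (r (x i) - x) (sub_mem (hr _) hx) (by rw [Pi.sub_apply, hri, sub_self])
      rwa [Pi.sub_apply, sub_eq_zero] at this
    refine hsep i j hij ⟨
      { toFun := fun y => r y j
        map_one' := ?_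
        map_mul' := fun a b => ?_
        map_zero' := ?_
        map_add' := fun a b => ?_ }, fun k c => key _ (hA k c)⟩
    · exact key 1 (one_mem S)
    · have := key (r a * r b) (mul_mem (hr a) (hr b))
      rwa [Pi.mul_apply, hri, hri, Pi.mul_apply] at this
    · exact key 0 (zero_mem S)
    · have := key (r a + r b) (add_mem (hr a) (hr b))
      rwa [Pi.add_apply, hri, hri, Pi.add_apply] at this
  have hsingle : ∀ (j : ι) (y : F), Pi.single j y ∈ W := by
    intro j y
    have hf : ∀ i, ∃ r ∈ S, (i ≠ j → r i = 0) ∧ r j ≠ 0 := fun i => by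
      by_cases h : i = j
      · exact ⟨1, one_mem S, fun h' => absurd h h', one_ne_zero⟩
      · obtain ⟨r, hr, h0, h1⟩ := hpair i j h; exact ⟨r, hr, fun _ => h0, h1⟩
    choose f hf hf0 hf1 using hf
    set e := ∏ i, f i with he
    have heS : e ∈ S := Subring.prod_mem S fun i _ => hf i
    have hej : e j ≠ 0 := by
      rw [he, Finset.prod_apply]; exact Finset.prod_ne_zero_iff.mpr fun i _ => hf1 i
    have hei : ∀ i, i ≠ j → e i = 0 := fun i hi => by
      rw [he, Finset.prod_apply]; exact Finset.prod_eq_zero (Finset.mem_univ i) (hf0 i hi)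
    obtain ⟨w, hw, hwj⟩ := hnz j
    obtain ⟨r, hr, hrj⟩ := hsurj j (y / (e j * w j))
    have := mul_mem hr heS w hw
    convert this using 1
    funext i
    by_cases h : i = j
    · subst h
      simp only [Pi.single_eq_same, Pi.mul_apply, hrj]
      field_simp
    · simp [Pi.single_eq_of_ne h, hei i h]
  rw [eq_top_iff]
  intro f _
  rw [← Finset.univ_sum_single f]
  exact sum_mem fun j _ => hsingle j (f j)

omit [Field F] [Fintype F] [Fintype ι] [DecidableEq ι] in
theorem pow_eq_one_of_dvd_orderOf {G : Type*} [Monoid G] {g : G} {d n : ℕ} (hd : orderOf g = d)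
    (h : d ∣ n) : g ^ n = 1 :=
  orderOf_dvd_iff_pow_eq_one.mp (hd ▸ h)

omit [Fintype ι] [DecidableEq ι] in
/-- No field endomorphism carries one column of characters to another. -/
theorem no_hom (A : ι → ι → ℤ) (i j : ι) (hi : A i i = 2) (hj : A j j = 2)
    (hAA : 0 ≤ A i j * A j i ∧ A i j * A j i ≤ 3) (hq : Fintype.card F ≠ 2)
    (h3 : Fintype.card F = 3 → ∃ k, ¬ ((2 : ℤ) ∣ (1 : ℤ) * A k i - A k j))
    (h4 : ∀ e : ℕ, e = 1 ∨ e = 2 → ∃ k, ¬ ((3 : ℤ) ∣ (e : ℤ) * A k i - A k j))
    (h5 : ∃ k, ¬ ((4 : ℤ) ∣ (1 : ℤ) * A k i - A k j)) :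
    ¬ ∃ σ : F →+* F, ∀ (k : ι) (c : Fˣ), σ ((c ^ A k i : Fˣ) : F) = ((c ^ A k j : Fˣ) : F) := by
  classical
  rintro ⟨σ, hσ⟩
  set τ : Fˣ →* Fˣ := Units.map σ.toMonoidHom with hτdef
  have hτ : ∀ (k : ι) (c : Fˣ), τ (c ^ A k i) = c ^ A k j := fun k c => Units.ext (hσ k c)
  obtain ⟨g, hg⟩ := IsCyclic.exists_monoid_generator (α := Fˣ)
  have hord : orderOf g = Fintype.card F - 1 := by
    rw [orderOf_eq_card_of_forall_mem_zpowers fun x => Subgroup.zpowers_eq_closure g ▸
      (show x ∈ Subgroup.closure {g} by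
        obtain ⟨n, hn⟩ := hg x
        exact hn ▸ pow_mem (Subgroup.mem_closure_singleton_self g) n), Nat.card_eq_fintype_card,
      Fintype.card_units]
  have key : g ^ (A i j * A j i) = g ^ (4 : ℤ) := by
    have e1 : τ (g ^ (2 : ℤ)) = g ^ A i j := by rw [← hi]; exact hτ i g
    have e2 : τ (g ^ A j i) = g ^ (2 : ℤ) := by rw [← hj]; exact hτ j g
    calc g ^ (A i j * A j i) = τ (g ^ (2 : ℤ)) ^ A j i := by rw [zpow_mul, e1]
      _ = τ (g ^ A j i) ^ (2 : ℤ) := by rw [← map_zpow, ← map_zpow, ← zpow_mul, ← zpow_mul, mul_comm]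
      _ = g ^ (4 : ℤ) := by rw [e2, ← zpow_mul]; norm_num
  have hm : ((orderOf g : ℕ) : ℤ) ∣ 4 - A i j * A j i := by
    rw [orderOf_dvd_iff_zpow_eq_one, zpow_sub, key, mul_inv_cancel]
  have hle : orderOf g ≤ 4 := by
    have := Int.le_of_dvd (by omega) hm
    omega
  obtain ⟨e, he⟩ := hg (τ g)
  have he : g ^ e = τ g := he
  have hdvd : ∀ k, ((orderOf g : ℕ) : ℤ) ∣ (e : ℤ) * A k i - A k j := fun k => by
    have h := hτ k g
    rw [map_zpow, ← he, ← zpow_natCast, ← zpow_mul] at h
    rw [orderOf_dvd_iff_zpow_eq_one, zpow_sub, h, mul_inv_cancel]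
  have hd : orderOf g = 2 ∨ orderOf g = 3 ∨ orderOf g = 4 := by
    have := Fintype.one_lt_card (α := F)
    omega
  rcases hd with hd | hd | hd
  · obtain ⟨k, hk⟩ := h3 (by omega)
    apply hk
    have h := hdvd k
    rw [hd] at h
    push_cast at h
    have hodd : e % 2 = 1 := by
      by_contra h2
      have h1 : τ g = 1 := by rw [← he, pow_eq_one_of_dvd_orderOf hd (by omega)]
      have h3' : g = 1 := by
        apply Units.ext
        apply σ.injective
        rw [Units.val_one, map_one]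
        exact congrArg Units.val h1
      rw [h3', orderOf_one] at hd
      omega
    obtain ⟨m, hm'⟩ : ∃ m : ℤ, (e : ℤ) = 2 * m + 1 := ⟨(e : ℤ) / 2, by omega⟩
    rw [hm', show (2 * m + 1) * A k i - A k j = 2 * (m * A k i) + (1 * A k i - A k j) by ring] at h
    exact (dvd_add_right (dvd_mul_right 2 _)).mp h
  · have he3 : e % 3 ≠ 0 := by
      intro h0
      have h1 : τ g = 1 := by rw [← he, pow_eq_one_of_dvd_orderOf hd (by omega)]
      have h3' : g = 1 := by
        apply Units.ext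
        apply σ.injective
        rw [Units.val_one, map_one]
        exact congrArg Units.val h1
      rw [h3', orderOf_one] at hd
      omega
    obtain ⟨k, hk⟩ := h4 (e % 3) (by omega)
    apply hk
    have h := hdvd k
    rw [hd] at h
    push_cast at h ⊢
    obtain ⟨m, hm'⟩ : ∃ m : ℤ, (e : ℤ) = 3 * m + (e : ℤ) % 3 := ⟨(e : ℤ) / 3, by omega⟩
    rw [hm', show (3 * m + (e : ℤ) % 3) * A k i - A k j =
      3 * (m * A k i) + ((e : ℤ) % 3 * A k i - A k j) by ring] at h
    exact (dvd_add_right (dvd_mul_right 3 _)).mp h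
  · obtain ⟨k, hk⟩ := h5
    apply hk
    have hσid : ∀ x : F, σ x = x := by
      haveI : Fact (Nat.Prime 5) := ⟨by norm_num⟩
      haveI : CharP F 5 := charP_of_card_eq_prime (by omega)
      intro x
      obtain ⟨z, rfl⟩ := (ZMod.ringEquivOfPrime F (by norm_num) (show Fintype.card F = 5 by omega)).surjective x
      exact RingHom.congr_fun (Subsingleton.elim (α := ZMod 5 →+* F)
        (σ.comp (ZMod.ringEquivOfPrime F (by norm_num) (show Fintype.card F = 5 by omega)).toRingHom)
        (ZMod.ringEquivOfPrime F (by norm_num) (show Fintype.card F = 5 by omega)).toRingHom) z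
    have h : g ^ A k i = g ^ A k j := by
      rw [← hτ k g]
      exact Units.ext (hσid _).symm
    rw [one_mul, ← Nat.cast_ofNat (n := 4), ← hd, orderOf_dvd_iff_zpow_eq_one, zpow_sub, h,
      mul_inv_cancel]

end CfsgLib.WeaklyClosed
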