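import Cfsg.Agent.Lib.KnownB.WeaklyClosed.Coef
import Cfsg.Agent.Lib.KnownB.WeaklyClosed.Full
import Cfsg.Agent.Lib.Chevalley.Levi

/-!
Weakly closed subgroups of `U` are the unipotent radicals of standard parabolic subgroups.
-/

set_option autoImplicit false
set_option linter.unusedSectionVars false

namespace CfsgLib.WeaklyClosed

open CfsgLib.Chevalley CfsgLib.Chevalley.Tbl

/-- A finite nilpotent group is generated by a subgroup which covers it modulo the commutator. -/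
theorem eq_top_of_sup_commutator {P : Type*} [Group P] [Finite P] (hP : Group.IsNilpotent P)
    (Y : Subgroup P) (h : Y ⊔ commutator P = ⊤) : Y = ⊤ := by
  by_contra hY
  obtain ⟨M, hM, hYM⟩ := (IsCoatomic.eq_top_or_exists_le_coatom Y).resolve_left hY
  haveI := hP
  have hMn : M.Normal :=
    Subgroup.NormalizerCondition.normal_of_coatom M (Group.normalizerCondition_of_isNilpotent (G := P)) hM
  obtain ⟨g, hg⟩ : ∃ g, g ∉ M := by
    by_contra hall
    push Not at hall
    exact hM.1 ((Subgroup.eq_top_iff' M).mpr hall)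
  have htop : M ⊔ Subgroup.zpowers g = ⊤ :=
    hM.2 _ (lt_of_le_of_ne le_sup_left fun e =>
      hg (e.symm ▸ Subgroup.mem_sup_right (Subgroup.mem_zpowers g)))
  have hgen : ∀ x : P ⧸ M, x ∈ Subgroup.zpowers (QuotientGroup.mk' M g) := by
    intro x
    obtain ⟨a, rfl⟩ := QuotientGroup.mk'_surjective M x
    have : a ∈ M ⊔ Subgroup.zpowers g := htop ▸ Subgroup.mem_top a
    rw [← SetLike.mem_coe, Subgroup.normal_mul] at this
    obtain ⟨m, hm, z, hz, rfl⟩ := this
    obtain ⟨k, rfl⟩ := Subgroup.mem_zpowers_iff.mp hz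
    refine Subgroup.mem_zpowers_iff.mpr ⟨k, ?_⟩
    rw [map_mul, map_zpow, show QuotientGroup.mk' M m = 1 from (QuotientGroup.eq_one_iff m).mpr hm,
      one_mul]
  have hle : commutator P ≤ M := by
    rw [commutator_def]
    refine Subgroup.commutator_le.mpr fun a _ b _ => ?_
    rw [← QuotientGroup.eq_one_iff, ← QuotientGroup.mk'_apply, map_commutatorElement,
      commutatorElement_eq_one_iff_mul_comm]
    obtain ⟨i, hi⟩ := Subgroup.mem_zpowers_iff.mp (hgen (QuotientGroup.mk' M a))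
    obtain ⟨j, hj⟩ := Subgroup.mem_zpowers_iff.mp (hgen (QuotientGroup.mk' M b))
    rw [← hi, ← hj, ← zpow_add, ← zpow_add, add_comm]
  exact hM.1 (eq_top_iff.mpr (h ▸ sup_le hYM hle))

theorem exists_ne_zero_ne_one {F : Type*} [Field F] [Fintype F] (h : Fintype.card F ≠ 2) :
    ∃ l : F, l ≠ 0 ∧ l ≠ 1 := by
  classical
  have := Fintype.one_lt_card (α := F)
  obtain ⟨l, -, hl⟩ := Finset.exists_mem_notMem_of_card_lt_card (s := ({0, 1} : Finset F))
    (t := Finset.univ) (lt_of_le_of_lt Finset.card_le_two (by rw [Finset.card_univ]; omega))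
  simp only [Finset.mem_insert, Finset.mem_singleton, not_or] at hl
  exact ⟨l, hl.1, hl.2⟩

theorem exists_sq_ne_one {F : Type*} [Field F] [Fintype F] (h : Fintype.card F ≠ 2)
    (h' : Fintype.card F ≠ 3) : ∃ l : F, l ≠ 0 ∧ l * l ≠ 1 := by
  classical
  have := Fintype.one_lt_card (α := F)
  obtain ⟨l, -, hl⟩ := Finset.exists_mem_notMem_of_card_lt_card (s := ({0, 1, -1} : Finset F))
    (t := Finset.univ) (lt_of_le_of_lt Finset.card_le_three (by rw [Finset.card_univ]; omega))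
  simp only [Finset.mem_insert, Finset.mem_singleton, not_or] at hl
  exact ⟨l, hl.1, fun e => (mul_self_eq_one_iff.mp e).elim hl.2.1 hl.2.2⟩

variable {T : Tbl} {F : Type*} [Field F] [Fintype F] (hT : T.Valid)
include hT

theorem separated (hK : T.chkCartan = true) (h2 : Fintype.card F ≠ 2)
    (h3 : Fintype.card F = 3 → T.chkSep 2 1 = true) {i j : Fin T.rank} (hij : i ≠ j) :
    ¬ ∃ σ : F →+* F, ∀ (k : Fin T.rank) (c : Fˣ),
      σ ((c ^ T.ca k (T.simple i) : Fˣ) : F) = ((c ^ T.ca k (T.simple j) : Fˣ) : F) := by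
  have hne : Nat.beq i.val j.val = false := by
    rw [Bool.eq_false_iff]; exact fun e => hij (Fin.ext (Nat.eq_of_beq_eq_true e))
  have hsep : ∀ d e : ℕ, T.chkSep d e = true →
      ∃ k : Fin T.rank, ¬ ((d : ℤ) ∣ (e : ℤ) * T.ca k (T.simple i) - T.ca k (T.simple j)) := by
    intro d e h
    have := allLt_iff.mp (allLt_iff.mp h i i.2) j j.2
    simp only [hne, Bool.false_or, List.any_eq_true, List.mem_range, Bool.not_eq_true',
      decide_eq_false_iff_not] at this
    obtain ⟨k, hk, h'⟩ := this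
    exact ⟨⟨k, hk⟩, fun h'' => h' (Int.emod_eq_zero_of_dvd h'')⟩
  unfold Tbl.chkCartan at hK
  simp only [Bool.and_eq_true] at hK
  obtain ⟨⟨⟨hAA, h31⟩, h32⟩, h41⟩ := hK
  have hAA' := allLt_iff.mp (allLt_iff.mp hAA i i.2) j j.2
  simp only [hne, Bool.false_or, decide_eq_true_eq] at hAA'
  have hd : ∀ k : Fin T.rank, T.ca k (T.simple k) = 2 := fun k => by
    rw [← pair_simple hT k.2]; exact pair_self hT (simple_lt hT k.2)
  refine no_hom (fun k l : Fin T.rank => T.ca k (T.simple l)) i j (hd i) (hd j) hAA' h2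
    (fun h => ?_) (fun e he => ?_) ?_
  · simpa using hsep 2 1 (h3 h)
  · rcases he with rfl | rfl
    · simpa using hsep 3 1 h31
    · simpa using hsep 3 2 h32
  · simpa using hsep 4 1 h41

variable (hC : T.chkComm = true)
include hC

/-- A subgroup of `U` invariant under the torus with all fundamental coefficients nonzero is `U`. -/
theorem eq_pos_of_inv {q4 : Bool} (hD : T.chkDerived q4 = true) (hK : T.chkCartan = true)
    (h2 : Fintype.card F ≠ 2) (h3 : Fintype.card F = 3 → T.chkSep 2 1 = true)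
    (hq4 : q4 = true → Fintype.card F ≠ 3)
    (Y : Subgroup (GL T.I F)) (hYP : Y ≤ PU T F)
    (hH : ∀ (k : Fin T.rank) (c : Fˣ), ∀ y ∈ Y,
      T.dU (T.hCh (T.simple k) c) * y * (T.dU (T.hCh (T.simple k) c))⁻¹ ∈ Y)
    (hnz : ∀ j : Fin T.rank, ∃ y : ↥(PU T F), (y : GL T.I F) ∈ Y ∧ coef hT hC j y ≠ 0) :
    PU T F ≤ Y := by
  classical
  let W : AddSubgroup (Fin T.rank → F) :=
    { carrier := {f | ∃ y : ↥(PU T F), (y : GL T.I F) ∈ Y ∧ ∀ i, coef hT hC i y = f i}
      add_mem' := fun {f g} ⟨y, hy, ey⟩ ⟨z, hz, ez⟩ =>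
        ⟨y * z, mul_mem hy hz, fun i => by rw [coef_mul, ey, ez]; rfl⟩
      zero_mem' := ⟨1, one_mem _, fun i => coef_one hT hC i⟩
      neg_mem' := fun {f} ⟨y, hy, ey⟩ => ⟨y⁻¹, inv_mem hy, fun i => by rw [coef_inv, ey]; rfl⟩ }
  have hinv : ∀ (k : Fin T.rank) (c : Fˣ), ∀ w ∈ W,
      (fun i : Fin T.rank => ((c ^ T.ca k (T.simple i) : Fˣ) : F) * w i) ∈ W := by
    rintro k c w ⟨y, hy, ey⟩
    have hh : T.dU (T.hCh (T.simple k) c) ∈ T.datum.diagonalSubgroup F := by
      rw [diagonalSubgroup_eq hT]; exact Subgroup.subset_closure ⟨_, simple_lt hT k.2, c, rfl⟩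
    refine ⟨⟨_, hYP (hH k c y hy)⟩, hH k c y hy, fun i => coef_eq hT hC i ?_⟩
    have hp := simple_lt hT i.2
    have h1 := (Subgroup.mem_normalizer_iff.mp
      (diag_le_normalizer hT (fun s => T.half ≤ s ∧ s ≠ T.simple i) hh) _).mp (coef_spec hT hC i y)
    have e := dU_hCh_xU hT (simple_lt hT k.2) c hp (coef hT hC i y)
    rw [pair_simple hT k.2, ey] at e
    rw [ey] at h1
    show (T.xU F (T.simple i) (((c ^ T.ca k (T.simple i) : Fˣ) : F) * w i))⁻¹ *
      (T.dU (T.hCh (T.simple k) c) * (y : GL T.I F) * (T.dU (T.hCh (T.simple k) c))⁻¹) ∈ UP T F i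
    rw [show T.xU F (T.simple i) (((c ^ T.ca k (T.simple i) : Fˣ) : F) * w i) =
        T.dU (T.hCh (T.simple k) c) * T.xU F (T.simple i) (w i) * (T.dU (T.hCh (T.simple k) c))⁻¹ by
      rw [e, mul_inv_cancel_right]]
    convert h1 using 1
    group
  have hW : W = ⊤ := eq_top_of_separated W (fun k i : Fin T.rank => T.ca k (T.simple i))
    (fun i => by
      show T.ca i (T.simple i) = 2
      rw [← pair_simple hT i.2]; exact pair_self hT (simple_lt hT i.2))
    hinv (fun j => by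
      obtain ⟨y, hy, hy'⟩ := hnz j
      exact ⟨fun i => coef hT hC i y, ⟨y, hy, fun i => rfl⟩, hy'⟩)
    fun i j hij => separated hT hK h2 h3 hij
  have hxi : ∀ r, T.wcSimple r = false → ∀ t : F, xi T F r t = 1 :=
    xi_eq_one hT hC hD (exists_ne_zero_ne_one h2) fun h => exists_sq_ne_one h2 (hq4 h)
  have hnil : Group.IsNilpotent ↥(PU T F) := by
    have := isNilpotent_pos (F := F) hT hC
    rwa [posUnipotent_rootGen hT] at this
  haveI : Finite (GL T.I F) := inferInstance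
  rw [← Subgroup.subgroupOf_eq_top]
  refine eq_top_of_sup_commutator hnil _ (eq_top_iff.mpr fun u _ => ?_)
  obtain ⟨y, hy, ey⟩ : (fun i => coef hT hC i u) ∈ W := hW ▸ AddSubgroup.mem_top _
  rw [show u = y * (y⁻¹ * u) by group]
  refine Subgroup.mul_mem_sup (Subgroup.mem_subgroupOf.mpr hy) ?_
  rw [← Abelianization.ker_of, MonoidHom.mem_ker, of_eq_prod hT hC hxi]
  refine Finset.prod_eq_one fun i _ => ?_
  rw [coef_mul, coef_inv, ey, neg_add_cancel, xi_zero hT]

/-- Weakly closed subgroups of `U` are unipotent radicals. -/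
theorem eq_radical (hS : T.chkSupp = true) {q4 : Bool} (hD : T.chkDerived q4 = true)
    (hK : T.chkCartan = true) (h2 : Fintype.card F ≠ 2)
    (h3 : Fintype.card F = 3 → T.chkSep 2 1 = true) (hq4 : q4 = true → Fintype.card F ≠ 3)
    (X : Subgroup (GL T.I F)) (hXU : X ≤ T.datum.posUnipotent F)
    (hwc : ∀ g ∈ T.datum.group F, X.map (MulAut.conj g).toMonoidHom ≤ T.datum.posUnipotent F →
      X.map (MulAut.conj g).toMonoidHom = X) :
    ∃ J : Set ℕ, (∀ j ∈ J, j < T.datum.rank) ∧ X = T.datum.unipotentRadical F J := by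
  classical
  have hPU : T.datum.posUnipotent F = PU T F := posUnipotent_rootGen hT
  rw [hPU] at hXU hwc
  have hnorm : ∀ g ∈ T.datum.group F, (∀ x ∈ X, g * x * g⁻¹ ∈ PU T F) →
      g ∈ Subgroup.normalizer (X : Set (GL T.I F)) := by
    intro g hg hx
    have e := hwc g hg (by rintro _ ⟨x, hx', rfl⟩; exact hx x hx')
    refine Subgroup.mem_normalizer_iff.mpr fun x => ⟨fun h => e ▸ ⟨x, h, rfl⟩, fun h => ?_⟩
    rw [← e] at h
    obtain ⟨z, hz, hzx⟩ := h
    obtain rfl : z = x := (MulAut.conj g).injective hzx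
    exact hz
  have hB : ∀ g ∈ T.datum.borelSubgroup F, g ∈ Subgroup.normalizer (X : Set (GL T.I F)) := by
    have hle : T.datum.borelSubgroup F ≤ Subgroup.normalizer (PU T F : Set (GL T.I F)) :=
      sup_le (hPU ▸ Subgroup.le_normalizer) (diag_le_normalizer hT _)
    exact fun g hg => hnorm g (borel_le_group hT hg) fun x hx =>
      (Subgroup.mem_normalizer_iff.mp (hle hg) x).mp (hXU hx)
  set J : Set ℕ := {j | j < T.rank ∧ X ≤ UP T F j} with hJdef
  refine ⟨J, fun j hj => hj.1, ?_⟩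
  have hnJ : ∀ j : Fin T.rank, (j : ℕ) ∈ J →
      T.nU F (T.simple j) 1 ∈ Subgroup.normalizer (X : Set (GL T.I F)) := fun j hj =>
    hnorm _ (nU_mem_group hT (simple_lt hT j.2) 1) fun x hx =>
      rootGen_mono (fun s _ h => h.1) (conj_Up hT j (hj.2 hx))
  obtain ⟨u, ⟨l, hlJ, rfl⟩, hneg⟩ : ∃ u, (∃ l : List (Fin T.rank), (∀ j ∈ l, (j : ℕ) ∈ J) ∧
      T.pw hT l = u) ∧ ∀ j : Fin T.rank, (j : ℕ) ∈ J → (u (T.simpF hT j)).val < T.half := by
    let S : Finset (Equiv.Perm (Fin T.n)) := Finset.univ.filter fun w =>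
      ∃ l : List (Fin T.rank), (∀ j ∈ l, (j : ℕ) ∈ J) ∧ T.pw hT l = w
    obtain ⟨v, hvS, hmax⟩ := S.exists_max_image T.invN
      ⟨1, Finset.mem_filter.mpr ⟨Finset.mem_univ _, [], by simp, pw_nil hT⟩⟩
    obtain ⟨l, hl, rfl⟩ := (Finset.mem_filter.mp hvS).2
    refine ⟨(T.pw hT l)⁻¹, ⟨l.reverse, fun j hj => hl j (List.mem_reverse.mp hj), pw_reverse hT l⟩,
      fun j hj => ?_⟩
    by_contra hge
    have h1 := invN_refP_mul hT (pw_mem hT l) j (not_lt.mp hge)
      (Equiv.apply_symm_apply (T.pw hT l) _)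
    have h2 := hmax (T.refP hT j * T.pw hT l) (Finset.mem_filter.mpr ⟨Finset.mem_univ _, j :: l,
      fun k hk => (List.mem_cons.mp hk).elim (fun e => e ▸ hj) (hl k), pw_cons hT j l⟩)
    omega
  have hn : T.nw F l ∈ Subgroup.normalizer (X : Set (GL T.I F)) :=
    list_prod_mem fun z hz => by
      obtain ⟨j, hj, rfl⟩ := List.mem_map.mp hz
      exact hnJ j (hlJ j hj)
  have hm := mono_nw (F := F) hT l
  have hsub : X ≤ T.datum.unipotentRadical F J := by
    intro x hx
    obtain ⟨a, ha, b, hb, e⟩ := exists_factor hT hC (T.posSet (T.pw hT l)) (T.negSet (T.pw hT l))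
      (fun r hr hrp => by
        rcases Nat.lt_or_ge (T.pw hT l ⟨r, hr⟩).val T.half with h | h
        · exact Or.inr ⟨hr, hrp, h⟩
        · exact Or.inl ⟨hr, hrp, h⟩) T.half T.half (Nat.two_mul _).symm le_rfl x (hXU hx)
    have h1 : T.nw F l * b * (T.nw F l)⁻¹ ∈ T.datum.borelSubgroup F := by
      have hx' := hXU ((Subgroup.mem_normalizer_iff.mp hn x).mp hx)
      have ha' := conj_mem_rootGen hT hm (Q := fun r => T.half ≤ r) (fun s ⟨_, _, h⟩ => h) ha
      have := mul_mem (inv_mem ha') hx'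
      rw [show (T.nw F l * a * (T.nw F l)⁻¹)⁻¹ * (T.nw F l * x * (T.nw F l)⁻¹) =
        T.nw F l * b * (T.nw F l)⁻¹ by rw [e]; group] at this
      exact Subgroup.mem_sup_left (hPU ▸ this)
    have h2 : T.nw F l * b * (T.nw F l)⁻¹ ∈ T.datum.negUnipotent F := by
      rw [negUnipotent_rootGen hT]
      exact conj_mem_rootGen hT hm (Q := fun r => r < T.half) (fun s ⟨_, _, h⟩ => h) hb
    have h3 : T.nw F l * b * (T.nw F l)⁻¹ ∈ (⊥ : Subgroup (GL T.I F)) :=
      borel_inf_neg (T := T) (F := F) hT ▸ ⟨h1, h2⟩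
    rw [Subgroup.mem_bot, mul_inv_eq_one, mul_eq_left] at h3
    rw [e, h3, mul_one, unipotentRadical_eq hT]
    refine rootGen_mono (fun r hr ⟨_, hrp, hrw⟩ =>
      (⟨(posRoot_iff hT).mpr ⟨hr, hrp⟩, fun hin => ?_⟩ :
        T.datum.IsPosRoot r ∧ ¬ T.datum.InRootSub J r)) ha
    refine absurd hrw (not_le.mpr (lt_half_of_co_nonpos hT (Fin.isLt _) fun k hk => ?_))
    rw [WP_linear hT (pw_mem hT l) _ hk]
    refine Finset.sum_nonpos fun m _ => ?_
    by_cases hmJ : (m : ℕ) ∈ J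
    · exact mul_nonpos_of_nonneg_of_nonpos (co_nonneg hT hr (isPos_iff.mpr hrp) m.2)
        (co_nonpos' hT (hneg m hmJ) hk)
    · rw [(supp_inSub hT hS hr).mp hin m m.2 hmJ, zero_mul]
  set L := T.rootGen F (fun r => T.half ≤ r ∧ T.datum.InRootSub J r) with hLdef
  have hLP : L ≤ PU T F := rootGen_mono fun r _ h => h.1
  have hYtop : PU T F ≤ X ⊔ L := by
    refine eq_pos_of_inv hT hC hD hK h2 h3 hq4 _ (sup_le hXU hLP) (fun k c y hy => ?_) fun j => ?_
    · have hh : T.dU (T.hCh (T.simple k) c) ∈ T.datum.diagonalSubgroup F := by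
        rw [diagonalSubgroup_eq hT]; exact Subgroup.subset_closure ⟨_, simple_lt hT k.2, c, rfl⟩
      have h : T.dU (T.hCh (T.simple k) c) ∈ Subgroup.normalizer (X : Set (GL T.I F)) ⊓
          Subgroup.normalizer (L : Set (GL T.I F)) :=
        ⟨hB _ (Subgroup.mem_sup_right hh), diag_le_normalizer hT _ hh⟩
      have h' := Subgroup.normalizer_inf_normalizer_le_normalizer_sup X L h
      exact (Subgroup.mem_normalizer_iff.mp h' y).mp hy
    · by_cases hj : (j : ℕ) ∈ J
      · have hp := simple_lt hT j.2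
        have hmem : T.xU F (T.simple j) 1 ∈ L := by
          refine xU_mem_rootGen (P := fun r => T.half ≤ r ∧ T.datum.InRootSub J r) hp
            ⟨half_le_simpF hT j, (supp_inSub hT hS hp).mpr fun k hk hkJ => ?_⟩ 1
          rw [co_simple hT j.2 hk, if_neg (fun e : k = j.val => hkJ (by rw [e]; exact hj))]
        refine ⟨⟨_, hLP hmem⟩, Subgroup.mem_sup_right hmem, ?_⟩
        rw [coef_xU_simple, if_pos rfl]
        exact one_ne_zero
      · obtain ⟨x, hx, hxn⟩ := SetLike.not_le_iff_exists.mp fun h => hj ⟨j.2, h⟩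
        refine ⟨⟨x, hXU hx⟩, Subgroup.mem_sup_left hx, fun h0 => hxn ?_⟩
        have := coef_spec hT hC j ⟨x, hXU hx⟩
        rwa [h0, xU_zero hT (simple_lt hT j.2), inv_one, one_mul] at this
  refine le_antisymm hsub fun g hg => ?_
  have hgP : g ∈ PU T F := by
    rw [unipotentRadical_eq hT] at hg
    exact rootGen_mono (fun r _ h => ((posRoot_iff hT).mp h.1).2) hg
  have hLN : L ≤ Subgroup.normalizer (X : Set (GL T.I F)) := fun z hz =>
    hB z (Subgroup.mem_sup_left (hPU ▸ hLP hz))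
  have h := hYtop hgP
  rw [← SetLike.mem_coe, Subgroup.coe_mul_of_right_le_normalizer_left _ _ hLN] at h
  obtain ⟨x, hx, z, hz, rfl⟩ := h
  have hz1 : z ∈ T.datum.unipotentRadical F J := by
    simpa using mul_mem (inv_mem (hsub hx)) hg
  have hz2 : z ∈ T.datum.leviSubgroup F J := by
    rw [leviSubgroup_eq hT]
    exact Subgroup.mem_sup_right (rootGen_mono (fun r _ h => h.2) hz)
  have hz3 : z ∈ (⊥ : Subgroup (GL T.I F)) :=
    (levi_decomposition (F := F) hT hS J).2 ▸ Subgroup.mem_inf.mpr ⟨hz1, hz2⟩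
  rw [Subgroup.mem_bot] at hz3
  simpa [hz3] using hx

end CfsgLib.WeaklyClosed
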